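import Groth.Agent.Lib.Cyc26.PullKer
import Groth.Agent.Lib.Cyc26.ChowA
import Groth.Agent.Lib.Cyc26.ChernFun
import Groth.Agent.Lib.Cyc26.MVExact
import Groth.Agent.Lib.Cyc26.Frac
import Groth.Agent.Lib.Cyc26.C1Flat
import Groth.Agent.Lib.Cyc26.SplitBase
import Groth.Agent.Lib.NumPoly18.Euler
import Groth.Agent.Lib.FibDim14.Basic
import Groth.Agent.Lib.UCat26.FlatRel
import Groth.Agent.Lib.GrpdDim19.Equidim
import Groth.Agent.Lib.Bivar12.Envelope
import Groth.Prelude.Def_IntMult

/-! # External product with a cycle preserves rational equivalence -/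

set_option autoImplicit false
set_option linter.style.haveILetI false

universe u

open CategoryTheory Limits AlgebraicGeometry TopologicalSpace

set_option backward.isDefEq.respectTransparency.types false

noncomputable section

namespace Groth.Agent.IntMult26

open Groth.Agent Groth.Agent.Cyc26A
open scoped Classical

variable {K : Type u} [Field K] {X Y P : Scheme.{u}} {f : X ⟶ Spec (CommRingCat.of K)}
  {g : Y ⟶ Spec (CommRingCat.of K)} {p : P ⟶ X} {q : P ⟶ Y}

/-- The coefficients of the external product for an arbitrary product diagram. -/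
def ext (p : P ⟶ X) (q : P ⟶ Y) (δX : X → ℤ) (δY : Y → ℤ) (δ : P → ℤ) (a : X → ℤ) (b : Y → ℤ) : P → ℤ :=
  fun z => if δ z = δX (p z) + δY (q z) then
    a (p z) * b (q z) * ((Module.length (P.presheaf.stalk z) (P.presheaf.stalk z ⧸
      ((IsLocalRing.maximalIdeal (X.presheaf.stalk (p z))).map (p.stalkMap z).hom ⊔
        (IsLocalRing.maximalIdeal (Y.presheaf.stalk (q z))).map (q.stalkMap z).hom))).toNat : ℤ)
  else 0

theorem ext_symm (δX : X → ℤ) (δY : Y → ℤ) (δ : P → ℤ) (a : X → ℤ) (b : Y → ℤ) :
    ext p q δX δY δ a b = ext q p δY δX δ b a := by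
  funext z
  simp only [ext, add_comm (δX (p z)), mul_comm (a (p z))]
  rw [sup_comm]

theorem isSetup_field : Cyc.IsSetup (Spec (CommRingCat.of K)) (fun _ => (0 : ℤ)) :=
  ⟨inferInstance, Cyc26.isUniversallyCatenary_stalk_field K, fun a b _ hne =>
    absurd (Subsingleton.elim (α := PrimeSpectrum K) a b) hne⟩

theorem deltaCompat_snd_aux (hsq : IsPullback p q f g) {δ : P → ℤ}
    (hP : Cyc.DeltaCompat (p ≫ f) δ (fun _ => 0)) : Cyc.DeltaCompat (q ≫ g) δ (fun _ => 0) := by
  rwa [← hsq.w]

/-- The product of a class with an integral closed subscheme. -/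
theorem exists_strand [LocallyOfFiniteType f] [LocallyOfFiniteType g] (hsq : IsPullback p q f g) {δX : X → ℤ}
    {δY : Y → ℤ} {δ : P → ℤ} (hX : Cyc.DeltaCompat f δX (fun _ => 0)) (hY : Cyc.DeltaCompat g δY (fun _ => 0))
    (hP : Cyc.DeltaCompat (p ≫ f) δ (fun _ => 0)) (η : Y) :
    ∃ (Q : Scheme.{u}) (J : Q ⟶ P) (_ : IsClosedImmersion J) (_ : Flat (J ≫ p)) (j : Q → ℤ),
      (∀ w, j w = δ (J w)) ∧ Shift (J ≫ p) j δX (δY η) ∧ Set.range J = q ⁻¹' closure {η} ∧
      ∀ w, q (J w) = η → RingHom.ker (J.stalkMap w).hom =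
        (IsLocalRing.maximalIdeal (Y.presheaf.stalk (q (J w)))).map (q.stalkMap (J w)).hom := by
  set V := (NumPoly18.ptIdeal η).subscheme with hVdef
  set i := (NumPoly18.ptIdeal η).subschemeι with hidef
  obtain ⟨hI, v, hv, hvη⟩ := NumPoly18.isIntegral_pt η
  haveI : IsIntegral V := hI
  let Q := pullback q i
  let J := pullback.fst q i
  have sqi : IsPullback J (pullback.snd q i) q i := IsPullback.of_hasPullback q i
  haveI : IsClosedImmersion J := MorphismProperty.of_isPullback sqi.flip inferInstance
  have big : IsPullback (J ≫ p) (pullback.snd q i) f (i ≫ g) := sqi.paste_horiz hsq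
  haveI : Flat (i ≫ g) := GrpdDim19.flat_to_field _
  haveI : Flat (J ≫ p) := MorphismProperty.of_isPullback big.flip inferInstance
  haveI : LocallyOfFiniteType (J ≫ p) := MorphismProperty.of_isPullback big.flip inferInstance
  refine ⟨Q, J, inferInstance, inferInstance, fun w => δ (J w), fun _ => rfl, ?_, ?_, fun w hw => ?_⟩
  · -- the shift
    have hV : Cyc.DeltaCompat (i ≫ g) (fun z => δY (i z)) (fun _ => 0) :=
      deltaCompat_comp i g (Cyc26.deltaCompat_closed i δY) hY
    obtain ⟨h0, hr, -⟩ := UCat26.hasRelDim_of_irreducible (i ≫ g) isSetup_field hV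
    have hgv : i (genericPoint V) = η := (congrArg i ((genericPoint_spec _).eq hv)).trans hvη
    rw [hgv] at h0 hr
    simp only [sub_zero] at h0 hr
    have hc : Cyc.DeltaCompat (J ≫ p) (fun w => δ (J w)) δX :=
      deltaCompat_of_comp (J ≫ p) f (Category.assoc J p f)
        (deltaCompat_comp J (p ≫ f) (Cyc26.deltaCompat_closed J δ) hP) hX
    intro z hz
    refine (Cyc26.shift_of_hasRelDim (J ≫ p) (FibDim14.hasRelDim_baseChange big.flip hr) hc z hz).trans ?_
    rw [Int.toNat_of_nonneg h0]
  · rw [Cyc26.range_of_isPullback sqi, NumPoly18.range_ptι]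
  · refine le_antisymm ?_ ?_
    · refine (Cyc26.ker_stalkMap_pullback_fst q i sqi w).trans ?_
      rw [Cyc26.stalkTo, ← Ideal.map_map]
      refine Ideal.map_mono (Ideal.map_le_iff_le_comap.2 fun a ha => (IsLocalRing.mem_maximalIdeal _).2 fun hu => ?_)
      have e : q (J w) = i (pullback.snd q i w) := by
        rw [← Scheme.Hom.comp_apply, sqi.w, Scheme.Hom.comp_apply]
      haveI : IsIso (Y.presheaf.stalkSpecializes (specializes_of_eq e)) :=
        ⟨Y.presheaf.stalkSpecializes (specializes_of_eq e.symm), by simp, by simp⟩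
      have hu' : IsUnit a := (isUnit_map_iff (Y.presheaf.stalkSpecializes (specializes_of_eq e)).hom a).1 hu
      exact (hu'.map (i.stalkMap (pullback.snd q i w)).hom).ne_zero (RingHom.mem_ker.1 ha)
    · -- the maximal ideal at η dies on the integral closed subscheme
      set v' := pullback.snd q i w
      have e : i v' = q (J w) := by rw [← Scheme.Hom.comp_apply, ← sqi.w, Scheme.Hom.comp_apply]
      have hv' : v' = genericPoint V := by
        refine i.isClosedEmbedding.injective ?_
        rw [e, hw, (genericPoint_spec _).eq hv, hvη]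
      have hf : IsField (V.presheaf.stalk v') := by
        rw [hv']
        exact Field.toIsField V.functionField
      refine Ideal.map_le_iff_le_comap.2 fun a ha => ?_
      show J.stalkMap w (q.stalkMap (J w) a) = 0
      have h1 : i.stalkMap v' (Y.presheaf.stalkSpecializes (specializes_of_eq e) a) = 0 := by
        by_contra hne
        have hu : IsUnit (i.stalkMap v' (Y.presheaf.stalkSpecializes (specializes_of_eq e) a)) := by
          obtain ⟨b, hb⟩ := hf.mul_inv_cancel hne
          exact IsUnit.of_mul_eq_one b hb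
        have hu2 := (isUnit_map_iff (i.stalkMap v').hom _).1 hu
        haveI : IsIso (Y.presheaf.stalkSpecializes (specializes_of_eq e)) :=
          ⟨Y.presheaf.stalkSpecializes (specializes_of_eq e.symm), by simp, by simp⟩
        exact (IsLocalRing.mem_maximalIdeal _).1 ha
          ((isUnit_map_iff (Y.presheaf.stalkSpecializes (specializes_of_eq e)).hom a).1 hu2)
      have h2 : (J ≫ q).stalkMap w a = 0 := by
        have h3 : (pullback.snd q i ≫ i).stalkMap w (Y.presheaf.stalkSpecializes (specializes_of_eq e) a) = 0 := by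
          rw [Scheme.Hom.stalkMap_comp]
          exact (congrArg ((pullback.snd q i).stalkMap w) h1).trans (map_zero _)
        have h4 := ConcreteCategory.congr_hom (Scheme.Hom.stalkMap_congr_hom (J ≫ q) (pullback.snd q i ≫ i) sqi.w w) a
        rw [h4]
        exact h3
      rw [Scheme.Hom.stalkMap_comp] at h2
      exact h2

/-- If `α ∼ 0` then `α × β ∼ 0`. -/
theorem ratEquivZero_ext [LocallyOfFiniteType f] [LocallyOfFiniteType g] [QuasiCompact g]
    (hsq : IsPullback p q f g) {δX : X → ℤ}
    {δY : Y → ℤ} {δ : P → ℤ} (hX : Cyc.DeltaCompat f δX (fun _ => 0)) (hY : Cyc.DeltaCompat g δY (fun _ => 0))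
    (hP : Cyc.DeltaCompat (p ≫ f) δ (fun _ => 0)) {r s : ℤ} {α : AlgebraicCycle X ℤ}
    (h0 : Cyc.RatEquivZero δX r α) {β : AlgebraicCycle Y ℤ} (hβ : β ∈ Cyc.Zk Y δY s) (γ : AlgebraicCycle P ℤ)
    (hγ : ⇑γ = ext p q δX δY δ ⇑α ⇑β) : Cyc.RatEquivZero δ (r + s) γ := by
  haveI : LocallyOfFiniteType p := MorphismProperty.of_isPullback hsq.flip inferInstance
  have hk : Cyc.IsSetup (Spec (CommRingCat.of K)) (fun _ => (0 : ℤ)) := isSetup_field
  have hXs := Cyc26Split.isSetup_of_lft f hk hX
  have hPs := Cyc26Split.isSetup_of_lft (p ≫ f) hk hP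
  haveI := hXs.1
  haveI := hPs.1
  haveI : CompactSpace Y := QuasiCompact.compactSpace_of_compactSpace g
  -- one point of the second cycle
  have hone : ∀ η : Y, ∃ c : AlgebraicCycle P ℤ, mk δ c = 0 ∧
      ⇑c = fun z => if q z = η then ext p q δX δY δ ⇑α (fun _ => 1) z else 0 := by
    intro η
    obtain ⟨Q, J, hJ, hfl, j, hj, hsh, hrange, hker⟩ := exists_strand hsq hX hY hP η
    haveI := hJ
    haveI := hfl
    haveI : LocallyOfFiniteType (J ≫ p) := inferInstance
    have hjc : Cyc.DeltaCompat J j δ := by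
      have e : j = fun w => δ (J w) := funext hj
      rw [e]; exact Cyc26.deltaCompat_closed J δ
    have hQs := Cyc26Split.isSetup_of_lft J hPs hjc
    haveI := hQs.1
    let c₀ := pullCycle (J ≫ p) hQs.2.2 hsh α
    refine ⟨AlgebraicCycle.map J j δ c₀, ?_, ?_⟩
    · rw [← push_mk J hQs.2.2 hPs.2.2 hjc, ← pull_mk (J ≫ p) hQs.2.2 hXs.2.2 hsh α c₀ (pullCycle_coe _ _ hsh α),
        mk_eq_zero_of_ratEquivZero h0, map_zero, map_zero]
    funext z
    by_cases hz : z ∈ Set.range J
    swap
    · rw [Cyc26.map_apply_eq_sum J j δ c₀ z ∅ (fun w hw => absurd hw (Finset.notMem_empty w))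
        (fun w hw _ _ => absurd ⟨w, hw⟩ hz), Finset.sum_empty]
      rw [hrange] at hz
      rw [if_neg (fun e : q z = η => hz (show q z ∈ closure {η} by rw [e]; exact subset_closure rfl))]
    obtain ⟨w, rfl⟩ := hz
    rw [Cyc26.map_apply_eq_sum J j δ c₀ (J w) {w} (fun u hu => by rw [Finset.mem_singleton.1 hu])
      (fun u hu _ _ => Finset.mem_singleton.2 (J.isClosedEmbedding.injective hu)), Finset.sum_singleton,
      AlgebraicCycle.mapCoeff, if_pos (hj w), Bivar12.residueDegree_eq_one_of_surjectiveOnStalks' J w,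
      Nat.cast_one, mul_one, pullCycle_coe, Cyc.pullFun]
    have hqw : η ⤳ q (J w) := specializes_iff_mem_closure.2 (show q (J w) ∈ closure {η} from hrange.le ⟨w, rfl⟩)
    by_cases hw : q (J w) = η
    · have hqY : δY (q (J w)) = δY η := by rw [hw]
      rw [if_pos hw, ext, hqY, hj]
      by_cases hd : δ (J w) = δX (p (J w)) + δY η
      swap
      · rw [if_neg hd]
        exact if_neg hd
      rw [if_pos hd, mul_one]
      refine (if_pos hd).trans ?_
      show α (p (J w)) * _ = α (p (J w)) * _
      congr 2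
      -- the two lengths agree
      let φ := (J.stalkMap w).hom
      have hφ : Function.Surjective φ := J.stalkMap_surjective w
      letI := φ.toAlgebra
      let M := (IsLocalRing.maximalIdeal (X.presheaf.stalk (p (J w)))).map (p.stalkMap (J w)).hom ⊔
        (IsLocalRing.maximalIdeal (Y.presheaf.stalk (q (J w)))).map (q.stalkMap (J w)).hom
      have hI : (IsLocalRing.maximalIdeal (X.presheaf.stalk ((J ≫ p) w))).map ((J ≫ p).stalkMap w).hom =
          M.map φ := by
        have e1 : ((IsLocalRing.maximalIdeal (Y.presheaf.stalk (q (J w)))).map (q.stalkMap (J w)).hom).map φ = ⊥ := by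
          rw [← hker w hw, Ideal.map_eq_bot_iff_le_ker]
        rw [Ideal.map_sup, e1, sup_bot_eq, Ideal.map_map, Scheme.Hom.stalkMap_comp]
        rfl
      rw [hI]
      let mkQ : P.presheaf.stalk (J w) →ₗ[P.presheaf.stalk (J w)] (Q.presheaf.stalk w ⧸ M.map φ) :=
          { toFun := fun a => Ideal.Quotient.mk (M.map φ) (φ a)
            map_add' := fun a b => by rw [map_add, map_add]
            map_smul' := fun a b => by
              rw [smul_eq_mul, map_mul, map_mul, RingHom.id_apply, Algebra.smul_def]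
              rfl }
      have hsur : Function.Surjective mkQ := fun x => by
        obtain ⟨y, rfl⟩ := Ideal.Quotient.mk_surjective x
        obtain ⟨a, rfl⟩ := hφ y
        exact ⟨a, rfl⟩
      have hkerQ : LinearMap.ker mkQ = M := by
        ext a
        rw [LinearMap.mem_ker]
        show Ideal.Quotient.mk (M.map φ) (φ a) = 0 ↔ _
        rw [Ideal.Quotient.eq_zero_iff_mem, ← Ideal.mem_comap, Ideal.comap_map_of_surjective φ hφ,
          ← RingHom.ker_eq_comap_bot, sup_eq_left.2 (by rw [show RingHom.ker φ = _ from hker w hw]; exact le_sup_right)]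
      rw [Module.length_eq_of_surjective (S := P.presheaf.stalk (J w)) hφ |>.symm]
      exact congrArg ENat.toNat (((Submodule.quotEquivOfEq _ _ hkerQ.symm).trans (mkQ.quotKerEquivOfSurjective hsur)).length_eq).symm
    · rw [if_neg hw, hj]
      refine if_neg fun hd => ?_
      change δ (J w) = δX (p (J w)) + δY η at hd
      -- the bound from the closure of `q (J w)`
      obtain ⟨Q', J', hJ', hfl', j', hj', hsh', hrange', -⟩ := exists_strand hsq hX hY hP (q (J w))
      haveI := hJ'
      haveI := hfl'
      have hjc' : Cyc.DeltaCompat J' j' δ := by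
        have e : j' = fun w => δ (J' w) := funext hj'
        rw [e]; exact Cyc26.deltaCompat_closed J' δ
      have hQs' := Cyc26Split.isSetup_of_lft J' hPs hjc'
      haveI := hQs'.1
      obtain ⟨w', hw'⟩ : J w ∈ Set.range J' := hrange' ▸ subset_closure rfl
      obtain ⟨w₀, h1, h2, h3⟩ := Cyc26.exists_maximal_fibre hQs'.2.2 (J' ≫ p) w'
      have h4 := UCat26.delta_le_of_specializes hQs'.2.2 h1
      rw [hsh' w₀ h3, h2, hj', hw', Scheme.Hom.comp_apply, hw'] at h4
      have hdY := (Cyc26Split.isSetup_of_lft g hk hY).2.2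
      have h5 := (hdY η (q (J w)) hqw (Ne.symm hw)).1
      omega
  choose c hc hcv using hone
  let T := (Cyc26Lim.finite_support β).toFinset
  have hsum_apply : ∀ (a : Y → AlgebraicCycle P ℤ) (u : Finset Y) (z : P), (∑ i ∈ u, a i) z = ∑ i ∈ u, a i z :=
    fun a u z => by
      induction u using Finset.induction_on with
      | empty => rfl
      | insert i u hi ih => rw [Finset.sum_insert hi, Finset.sum_insert hi, ← ih]; rfl
  have hsum : γ = ∑ η ∈ T, β η • c η := by
    ext z
    rw [hsum_apply, hγ]
    have h1 : ∀ η ∈ T, (β η • c η) z = β η * (if q z = η then ext p q δX δY δ ⇑α (fun _ => 1) z else 0) :=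
      fun η _ => by
        show β η * c η z = _
        rw [hcv]
    rw [Finset.sum_congr rfl h1]
    simp only [mul_ite, mul_zero]
    rw [Finset.sum_ite_eq]
    by_cases hT : q z ∈ T
    · rw [if_pos hT]
      simp only [ext]
      split_ifs <;> ring
    · rw [if_neg hT]
      have : β (q z) = 0 := by_contra fun h => hT ((Cyc26Lim.finite_support β).mem_toFinset.2 h)
      simp [ext, this]
  refine ratEquivZero_of_mk ?_ ?_
  · intro z hz
    rw [hγ]
    simp only [ext]
    split_ifs with hd
    swap
    · rfl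
    by_cases ha : δX (p z) = r
    · rw [hβ (q z) (fun e => hz (by omega))]; simp
    · rw [(Cyc26.ratEquivZero_iff.1 h0).eq_zero_of_dim ha]; simp
  · rw [hsum, map_sum]
    exact Finset.sum_eq_zero fun η _ => by rw [map_zsmul, hc, zsmul_zero]

end Groth.Agent.IntMult26
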