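/-
Local data at the generic point of a proper intersection component.
-/
import Groth.Prelude.Def_IntMult
import Groth.Agent.Lib.RegImm26.InterVar
import Groth.Agent.Lib.RegImm26.Noeth
import Groth.Agent.Lib.SmoothReg17.Basic
import Mathlib.AlgebraicGeometry.Properties
import Mathlib.AlgebraicGeometry.Stalk

set_option autoImplicit false

universe u

open CategoryTheory AlgebraicGeometry Order TopologicalSpace IsLocalRing
open Groth.Agent.VarDim Groth.Agent.DimF18 Groth.Agent.RegImm26

set_option backward.isDefEq.respectTransparency.types false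

namespace IntMult26

variable {k : Type u} [Field k]

/-- The dimension of a local ring of an irreducible scheme of finite type over a field. -/
theorem exists_ringKrullDim_stalk {Z : Scheme.{u}} (g : Z ⟶ Spec (CommRingCat.of k)) [LocallyOfFiniteType g]
    [IrreducibleSpace Z] {m : ℕ} (hm : topologicalKrullDim Z = m) (z : Z) :
    ∃ a : ℕ, ringKrullDim (Z.presheaf.stalk z) = a ∧ a + sdim g z = m := by
  haveI : IsLocallyNoetherian Z := LocallyOfFiniteType.isLocallyNoetherian g
  obtain ⟨b, hb⟩ := ENat.ne_top_iff_exists.1 (coheight_ne_top z)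
  refine ⟨b, by rw [ringKrullDim_stalk_eq_coheight, ← hb]; rfl, ?_⟩
  have h1 := sdim_le_add_coheight g (genericPoint_specializes z)
  rw [sdim_genericPoint g hm, ← hb] at h1
  have h1' : m ≤ sdim g z + b := by exact_mod_cast h1
  obtain ⟨w, -, hw⟩ := exists_generization_sdim g hb.symm
  have h2 : sdim g w ≤ m := by
    rw [← sdim_genericPoint g hm]
    by_cases he : genericPoint Z = w
    · rw [he]
    · exact (sdim_lt_of_specializes g (genericPoint_specializes w) he).le
  omega

variable {X : Scheme.{u}}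

/-- The stalk of an ideal sheaf is the kernel of the stalk map of its closed subscheme. -/
theorem stalkIdeal_eq_ker (I : X.IdealSheafData) (z : I.subscheme) :
    IntMult.stalkIdeal I (I.subschemeι z) = RingHom.ker (I.subschemeι.stalkMap z).hom := by
  refine le_antisymm (iSup₂_le fun U hx => ?_) ?_
  · rw [ker_stalkMap_eq I.subschemeι z U.2 hx, Scheme.IdealSheafData.ker_subschemeι_app]
  · obtain ⟨U, hU, hzU, -⟩ := exists_isAffineOpen_mem_and_subset (show I.subschemeι z ∈ (⊤ : X.Opens) from trivial)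
    refine le_trans ?_ (le_iSup₂ (f := fun (U : X.affineOpens) (hx : I.subschemeι z ∈ (U : X.Opens)) =>
      (I.ideal U).map (X.presheaf.germ U (I.subschemeι z) hx).hom) ⟨U, hU⟩ hzU)
    rw [ker_stalkMap_eq I.subschemeι z hU hzU, ← Scheme.IdealSheafData.ker_subschemeι_app (I := I) ⟨U, hU⟩]

/-- The quotient by the stalk of an ideal sheaf. -/
noncomputable def quotStalkIdealEquiv (I : X.IdealSheafData) (z : I.subscheme) :
    (X.presheaf.stalk (I.subschemeι z) ⧸ IntMult.stalkIdeal I (I.subschemeι z)) ≃+* I.subscheme.presheaf.stalk z :=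
  (Ideal.quotEquivOfEq (stalkIdeal_eq_ker I z)).trans
    (RingHom.quotientKerEquivOfSurjective (I.subschemeι.stalkMap_surjective z))

/-- A prime of the local ring containing the stalk of an ideal sheaf is a point of its support. -/
theorem fromSpecStalk_mem_support (I : X.IdealSheafData) {x : X} (hx : x ∈ I.support)
    (p : Spec (X.presheaf.stalk x)) (hp : IntMult.stalkIdeal I x ≤ p.asIdeal) :
    X.fromSpecStalk x p ∈ I.support := by
  obtain ⟨z, rfl⟩ : x ∈ Set.range I.subschemeι := I.range_subschemeι ▸ hx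
  rw [stalkIdeal_eq_ker] at hp
  obtain ⟨q, hq⟩ : p ∈ Set.range (PrimeSpectrum.comap (I.subschemeι.stalkMap z).hom) := by
    rw [range_comap_of_surjective _ _ (I.subschemeι.stalkMap_surjective z)]
    exact hp
  rw [← SetLike.mem_coe, ← I.range_subschemeι]
  refine ⟨I.subscheme.fromSpecStalk z q, ?_⟩
  have h := congrArg (fun φ : Spec (I.subscheme.presheaf.stalk z) ⟶ X => φ q)
    (Scheme.SpecMap_stalkMap_fromSpecStalk I.subschemeι (x := z))
  simp only [Scheme.Hom.comp_apply] at h
  rw [← h, show Spec.map (I.subschemeι.stalkMap z) q = p from hq]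

/-- Dimension of the local ring of an integral closed subscheme. -/
theorem exists_ringKrullDim_quot (f : X ⟶ Spec (CommRingCat.of k)) [LocallyOfFiniteType f] (I : X.IdealSheafData)
    [IsIntegral I.subscheme] {r : ℕ} (hr : topologicalKrullDim I.support = r) {ξ : X} (hξ : ξ ∈ I.support) :
    ∃ a : ℕ, ringKrullDim (X.presheaf.stalk ξ ⧸ IntMult.stalkIdeal I ξ) = a ∧ a + sdim f ξ = r := by
  have hr' : topologicalKrullDim I.subscheme = r := by
    rw [IsHomeomorph.topologicalKrullDim_eq _
      (I.subschemeι.isEmbedding.toHomeomorph.trans (Homeomorph.setCongr I.range_subschemeι)).isHomeomorph]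
    exact hr
  obtain ⟨z, rfl⟩ : ξ ∈ Set.range I.subschemeι := I.range_subschemeι ▸ hξ
  obtain ⟨a, ha, has⟩ := exists_ringKrullDim_stalk (I.subschemeι ≫ f) hr' z
  rw [sdim_comp_of_surjective f I.subschemeι z] at has
  exact ⟨a, by rw [ringKrullDim_eq_of_ringEquiv (quotStalkIdealEquiv I z), ha], has⟩

/-- All local data of a proper intersection. -/
theorem local_data (f : X ⟶ Spec (CommRingCat.of k)) [Smooth f] [IsIntegral X]
    (IV IW : X.IdealSheafData) [IsIntegral IV.subscheme] [IsIntegral IW.subscheme] (n r s : ℕ)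
    (hn : topologicalKrullDim X = n) (hr : topologicalKrullDim IV.support = r) (hs : topologicalKrullDim IW.support = s)
    (hprop : IntMult.ProperInt (IV.support : Set X) (IW.support : Set X) n r s) (ξ : X)
    (hξV : ξ ∈ IV.support) (hξW : ξ ∈ IW.support)
    (hmax : ∀ ξ' : X, ξ' ∈ IV.support → ξ' ∈ IW.support → ξ' ⤳ ξ → ξ' = ξ) :
    IsRegularLocalRing (X.presheaf.stalk ξ) ∧
      (∀ p : PrimeSpectrum (X.presheaf.stalk ξ), IntMult.stalkIdeal IW ξ ≤ p.asIdeal →
        IntMult.stalkIdeal IV ξ ≤ p.asIdeal → p.asIdeal = maximalIdeal (X.presheaf.stalk ξ)) ∧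
      IntMult.stalkIdeal IV ξ ≤ maximalIdeal (X.presheaf.stalk ξ) ∧
      ∃ t a b : ℕ, ringKrullDim (X.presheaf.stalk ξ) = t ∧
        ringKrullDim (X.presheaf.stalk ξ ⧸ IntMult.stalkIdeal IW ξ) = a ∧
        ringKrullDim (X.presheaf.stalk ξ ⧸ IntMult.stalkIdeal IV ξ) = b ∧ t ≤ a + b := by
  obtain ⟨b, hb, hbs⟩ := exists_ringKrullDim_quot f IV hr hξV
  obtain ⟨a, ha, has⟩ := exists_ringKrullDim_quot f IW hs hξW
  obtain ⟨t, ht, hts⟩ := exists_ringKrullDim_stalk f hn ξ
  refine ⟨Groth.Agent.SmoothReg17.isRegularLocalRing_stalk f ξ, fun p hpW hpV => ?_,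
    le_maximalIdeal fun h => ?_, t, a, b, ht, ha, hb, ?_⟩
  · have h := hmax _ (fromSpecStalk_mem_support IV hξV p hpV) (fromSpecStalk_mem_support IW hξW p hpW) (by
      have : X.fromSpecStalk ξ p ∈ {y | y ⤳ ξ} := Scheme.range_fromSpecStalk ▸ Set.mem_range_self p
      exact this)
    have hc : p = closedPoint (X.presheaf.stalk ξ) :=
      (X.fromSpecStalk ξ).isEmbedding.injective (h.trans Scheme.fromSpecStalk_closedPoint.symm)
    rw [hc]
    rfl
  · haveI : Subsingleton (X.presheaf.stalk ξ ⧸ IntMult.stalkIdeal IV ξ) := Ideal.Quotient.subsingleton_iff.2 h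
    rw [ringKrullDim_eq_bot_of_subsingleton] at hb
    exact WithBot.bot_ne_natCast b hb
  · obtain ⟨hrs, hdim⟩ := hprop ⟨ξ, hξV, hξW⟩
    have hsub : closure ({ξ} : Set X) ⊆ (IV.support : Set X) ∩ IW.support :=
      closure_minimal (Set.singleton_subset_iff.2 ⟨hξV, hξW⟩) (IV.support.isClosed.inter IW.support.isClosed)
    have hle : topologicalKrullDim (closure ({ξ} : Set X)) ≤ topologicalKrullDim ↥((IV.support : Set X) ∩ IW.support) :=
      (Topology.IsEmbedding.inclusion hsub).isInducing.topologicalKrullDim_le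
    rw [dim_closure_singleton f ξ] at hle
    have h3 : sdim f ξ ≤ r + s - n := by exact_mod_cast hle.trans hdim
    omega

end IntMult26
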