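/-
Additivity of the Samuel multiplicity of a fixed degree and the associativity formula.
-/
import Groth.Agent.Lib.HilbSam.Dim
import Groth.Agent.Lib.Herbrand26.DimOne
import Groth.Agent.Lib.AssPts11.IntegralMod
import Mathlib.RingTheory.KrullDimension.Module
import Mathlib.Analysis.Polynomial.Basic
import Mathlib.RingTheory.Filtration

set_option autoImplicit false

universe u

open Filter Topology Polynomial Groth.Agent

namespace IntMult26

variable {A : Type u} [CommRing A]

/-- The normalised Hilbert–Samuel function. -/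
noncomputable def nhs (I : Ideal A) (d : ℕ) (M : Type u) [AddCommGroup M] [Module A M] (t : ℕ) : ℝ :=
  (d.factorial : ℝ) * ((Module.length A (M ⧸ (I ^ t • (⊤ : Submodule A M)))).toNat : ℝ) / (t : ℝ) ^ d

variable [IsNoetherianRing A] [IsLocalRing A] {I : Ideal A}
  (hI : I ≤ IsLocalRing.maximalIdeal A ∧ ∃ n : ℕ, IsLocalRing.maximalIdeal A ^ n ≤ I)

include hI in
theorem isFiniteLength_quot (M : Type u) [AddCommGroup M] [Module A M] [Module.Finite A M] :
    IsFiniteLength A (M ⧸ I • (⊤ : Submodule A M)) :=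
  HilbSam.isFiniteLength_of_support fun p hp => by
    rw [Module.support_quotient] at hp
    obtain ⟨n, hn⟩ := hI.2
    have h : IsLocalRing.maximalIdeal A = p.asIdeal :=
      (IsLocalRing.maximalIdeal.isMaximal A).eq_of_le p.2.ne_top (p.2.le_of_pow_le (hn.trans hp.2))
    rw [← h]
    infer_instance

include hI in
theorem length_ne_top (M : Type u) [AddCommGroup M] [Module A M] [Module.Finite A M] (t : ℕ) :
    Module.length A (M ⧸ (I ^ t • (⊤ : Submodule A M))) ≠ ⊤ :=
  HilbSam.length_quotient_pow_ne_top (isFiniteLength_quot hI M) t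

theorem tendsto_shift {d c : ℕ} {f : ℕ → ℝ} {e : ℝ}
    (h : Tendsto (fun t : ℕ => (d.factorial : ℝ) * f t / (t : ℝ) ^ d) atTop (𝓝 e)) :
    Tendsto (fun t : ℕ => (d.factorial : ℝ) * f (t - c) / (t : ℝ) ^ d) atTop (𝓝 e) := by
  rw [← tendsto_add_atTop_iff_nat c]
  have h1 : Tendsto (fun t : ℕ => (t : ℝ) / ((t + c : ℕ) : ℝ)) atTop (𝓝 1) := by
    have := (tendsto_natCast_div_add_atTop (𝕜 := ℝ) (c : ℝ))
    simpa using this
  have h2 := h.mul (h1.pow d)
  simp only [one_pow, mul_one] at h2
  refine h2.congr' ?_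
  filter_upwards [eventually_gt_atTop 0] with t ht
  have h0 : (t : ℝ) ^ d ≠ 0 := pow_ne_zero _ (Nat.cast_ne_zero.2 ht.ne')
  rw [Nat.add_sub_cancel, div_pow]
  field_simp

include hI in
/-- Additivity in short exact sequences. -/
theorem tendsto_nhs_add {M' M M'' : Type u} [AddCommGroup M'] [Module A M'] [AddCommGroup M] [Module A M]
    [AddCommGroup M''] [Module A M''] [Module.Finite A M'] [Module.Finite A M] [Module.Finite A M'']
    (f : M' →ₗ[A] M) (g : M →ₗ[A] M'') (hf : Function.Injective f) (hg : Function.Surjective g)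
    (hfg : LinearMap.range f = LinearMap.ker g) (d : ℕ) {e' e'' : ℝ}
    (h' : Tendsto (nhs I d M') atTop (𝓝 e')) (h'' : Tendsto (nhs I d M'') atTop (𝓝 e'')) :
    Tendsto (nhs I d M) atTop (𝓝 (e' + e'')) := by
  obtain ⟨c, hc⟩ := Ideal.exists_pow_inf_eq_pow_smul I (LinearMap.range f)
  let L := fun (N : Type u) [AddCommGroup N] [Module A N] (t : ℕ) =>
    (Module.length A (N ⧸ (I ^ t • (⊤ : Submodule A N)))).toNat
  have key : ∀ t, L M'' t + L M' (t - c) ≤ L M t ∧ L M t ≤ L M'' t + L M' t := by
    intro t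
    let S : Submodule A M := I ^ t • ⊤
    let φ : M' →ₗ[A] M ⧸ S := S.mkQ.comp f
    have hmap : S ≤ (I ^ t • (⊤ : Submodule A M'')).comap g := by
      rw [← Submodule.map_le_iff_le_comap, Submodule.map_smul'']
      exact Submodule.smul_mono le_rfl le_top
    let ψ := Submodule.mapQ S _ g hmap
    have hψ : Function.Surjective ψ := fun y => by
      obtain ⟨y, rfl⟩ := Submodule.mkQ_surjective _ y
      obtain ⟨m, rfl⟩ := hg y
      exact ⟨Submodule.mkQ _ m, rfl⟩
    have hker : LinearMap.ker ψ = LinearMap.range φ := by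
      refine le_antisymm (fun z hz => ?_) ?_
      · obtain ⟨m, rfl⟩ := Submodule.mkQ_surjective _ z
        have h1 : g m ∈ I ^ t • (⊤ : Submodule A M).map g := by
          rw [Submodule.map_top, LinearMap.range_eq_top.2 hg]
          simpa [ψ, Submodule.Quotient.mk_eq_zero] using hz
        rw [← Submodule.map_smul''] at h1
        obtain ⟨s, hs, hsm⟩ := h1
        obtain ⟨x, hx⟩ : m - s ∈ LinearMap.range f := by
          rw [hfg, LinearMap.mem_ker, map_sub, hsm, sub_self]
        refine ⟨x, ?_⟩
        show S.mkQ (f x) = S.mkQ m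
        rw [hx, map_sub]
        rw [show S.mkQ s = 0 from (Submodule.Quotient.mk_eq_zero _).2 hs, sub_zero]
      · rintro _ ⟨x, rfl⟩
        show Submodule.Quotient.mk (g (f x)) = 0
        rw [show g (f x) = 0 from LinearMap.mem_ker.1 (hfg ▸ LinearMap.mem_range_self f x)]
        rfl
    have e : Module.length A (M ⧸ S) =
        Module.length A (LinearMap.range φ) + Module.length A (M'' ⧸ (I ^ t • (⊤ : Submodule A M''))) := by
      rw [HilbSam.length_eq_ker_add_range ψ, hker, LinearMap.range_eq_top.2 hψ, Submodule.topEquiv.length_eq]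
    have hk1 : I ^ t • (⊤ : Submodule A M') ≤ LinearMap.ker φ := by
      intro x hx
      show Submodule.Quotient.mk (f x) = 0
      rw [Submodule.Quotient.mk_eq_zero]
      have : f x ∈ (I ^ t • (⊤ : Submodule A M')).map f := ⟨x, hx, rfl⟩
      rw [Submodule.map_smul''] at this
      exact Submodule.smul_mono le_rfl le_top this
    have hk2 : LinearMap.ker φ ≤ I ^ (t - c) • (⊤ : Submodule A M') := by
      intro x hx
      by_cases htc : c ≤ t
      · have h1 : f x ∈ I ^ t • (⊤ : Submodule A M) ⊓ LinearMap.range f :=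
          ⟨by simpa [φ, S, Submodule.Quotient.mk_eq_zero] using hx, x, rfl⟩
        rw [hc t htc] at h1
        have h2 : f x ∈ (I ^ (t - c) • (⊤ : Submodule A M')).map f := by
          rw [Submodule.map_smul'', Submodule.map_top]
          exact Submodule.smul_mono le_rfl inf_le_right h1
        obtain ⟨y, hy, hyx⟩ := h2
        rwa [← hf hyx]
      · rw [Nat.sub_eq_zero_of_le (le_of_not_ge htc), pow_zero, Ideal.one_eq_top, Submodule.top_smul]
        trivial
    have htop := length_ne_top hI M t
    rw [e] at htop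
    have ha : Module.length A (LinearMap.range φ) ≠ ⊤ := fun h => htop (by rw [h, top_add])
    have eN : L M t = (Module.length A (LinearMap.range φ)).toNat + L M'' t := by
      show (Module.length A (M ⧸ S)).toNat = _
      rw [e]
      exact ENat.toNat_add ha (length_ne_top hI M'' t)
    have hq := φ.quotKerEquivRange.length_eq
    constructor
    · rw [eN, add_comm]
      refine Nat.add_le_add_right (ENat.toNat_le_toNat ?_ ha) _
      rw [← hq]
      exact Module.length_le_of_surjective _ (Submodule.factor_surjective hk2)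
    · rw [eN, add_comm]
      refine Nat.add_le_add_left (ENat.toNat_le_toNat ?_ (length_ne_top hI M' t)) _
      rw [← hq]
      exact Module.length_le_of_surjective _ (Submodule.factor_surjective hk1)
  have hlow : Tendsto (fun t : ℕ => nhs I d M'' t + (d.factorial : ℝ) * (L M' (t - c) : ℝ) / (t : ℝ) ^ d)
      atTop (𝓝 (e'' + e')) := h''.add (tendsto_shift (f := fun t => (L M' t : ℝ)) h')
  rw [add_comm e' e'']
  refine tendsto_of_tendsto_of_tendsto_of_le_of_le hlow (h''.add h') (fun t => ?_) (fun t => ?_)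
  · simp only [nhs, ← add_div, ← mul_add]
    refine div_le_div_of_nonneg_right (mul_le_mul_of_nonneg_left ?_ (by positivity)) (by positivity)
    exact_mod_cast (key t).1
  · simp only [nhs, ← add_div, ← mul_add]
    refine div_le_div_of_nonneg_right (mul_le_mul_of_nonneg_left ?_ (by positivity)) (by positivity)
    exact_mod_cast (key t).2

include hI in
/-- The normalised function tends to zero above the dimension. -/
theorem tendsto_nhs_zero (M : Type u) [AddCommGroup M] [Module A M] [Module.Finite A M] {d : ℕ}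
    (hd : Module.supportDim A M ≤ d) : Tendsto (nhs I (d + 1) M) atTop (𝓝 0) := by
  obtain ⟨n, hn⟩ := hI.2
  obtain ⟨x, hx, hxfin⟩ := HilbSam.exists_parameters_module (A := A) (M := M) hd
  let y : Fin d → A := fun i => x i ^ n
  have hyI : Ideal.span (Set.range y) ≤ I := by
    rw [Ideal.span_le]
    rintro _ ⟨i, rfl⟩
    refine hn (Ideal.pow_mem_pow ?_ n)
    rw [← IsLocalRing.ringJacobson_eq_maximalIdeal]
    exact hx i
  have hyfin : IsFiniteLength A (M ⧸ Ideal.span (Set.range y) • (⊤ : Submodule A M)) :=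
    HilbSam.isFiniteLength_of_support fun p hp => by
      refine HilbSam.isMaximal_of_mem_support hxfin ?_
      rw [Module.support_quotient] at hp ⊢
      refine ⟨hp.1, Ideal.span_le.2 ?_⟩
      rintro _ ⟨i, rfl⟩
      exact p.2.mem_of_pow_mem n (hp.2 (Ideal.subset_span ⟨i, rfl⟩))
  obtain ⟨q, hq, N, hN⟩ := HilbSam.polyLT_hs y hyfin
  have h1 : Tendsto (fun t : ℕ => ((d + 1).factorial : ℝ) * ((q.map (algebraMap ℚ ℝ)).eval (t : ℝ) /
      ((X : ℝ[X]) ^ (d + 1)).eval (t : ℝ))) atTop (𝓝 0) := by
    have hdeg : (q.map (algebraMap ℚ ℝ)).degree < ((X : ℝ[X]) ^ (d + 1)).degree := by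
      rw [degree_X_pow, degree_map]
      exact mem_degreeLT.1 hq
    have := ((div_tendsto_atTop_zero_of_degree_lt _ _ hdeg).comp tendsto_natCast_atTop_atTop).const_mul
      (((d + 1).factorial : ℝ))
    simpa using this
  refine tendsto_of_tendsto_of_tendsto_of_le_of_le' tendsto_const_nhds h1 ?_ ?_
  · exact Eventually.of_forall fun t => by
      simp only [nhs]
      positivity
  · filter_upwards [eventually_ge_atTop N] with t ht
    rw [eval_map_algebraMap, eval_pow, eval_X, nhs, mul_div_assoc]
    refine mul_le_mul_of_nonneg_left (div_le_div_of_nonneg_right ?_ (by positivity)) (by positivity)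
    have h2 : (Module.length A (M ⧸ (I ^ t • (⊤ : Submodule A M)))).toNat ≤ HilbSam.hs (Ideal.span (Set.range y)) M t :=
      ENat.toNat_le_toNat (Module.length_le_of_surjective _ (Submodule.factor_surjective
        (Submodule.smul_mono_left (Ideal.pow_right_mono hyI t)))) (HilbSam.length_quotient_pow_ne_top hyfin t)
    refine (Nat.cast_le.2 h2).trans (le_of_eq ?_)
    have h3 := hN t ht
    rw [show (HilbSam.hs (Ideal.span (Set.range y)) M t : ℝ) = ((HilbSam.hs (Ideal.span (Set.range y)) M t : ℚ) : ℝ) by simp, h3]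
    simp [aeval_def, eval₂_at_natCast]

omit [IsLocalRing A] in
/-- The dimension drops along a strict inclusion of primes. -/
theorem ringKrullDim_quotient_succ_le {q p : PrimeSpectrum A} (h : q < p) :
    ringKrullDim (A ⧸ p.asIdeal) + 1 ≤ ringKrullDim (A ⧸ q.asIdeal) := by
  have hle : q.asIdeal ≤ p.asIdeal := (PrimeSpectrum.asIdeal_le_asIdeal _ _).2 h.le
  obtain ⟨x, hxp, hxq⟩ := SetLike.exists_of_lt ((PrimeSpectrum.asIdeal_lt_asIdeal _ _).2 h)
  refine ringKrullDim_succ_le_of_surjective (Ideal.Quotient.factor hle) (Ideal.Quotient.factor_surjective hle)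
    (r := Ideal.Quotient.mk q.asIdeal x) ?_ ?_
  · rw [mem_nonZeroDivisors_iff_ne_zero, Ne, Ideal.Quotient.eq_zero_iff_mem]
    exact hxq
  · rw [Ideal.Quotient.factor_mk, Ideal.Quotient.eq_zero_iff_mem]
    exact hxp

open Herbrand26

include hI in
/-- The associativity formula. -/
theorem tendsto_nhs_sum (M : Type u) [AddCommGroup M] [Module A M] [Module.Finite A M] (d : ℕ)
    (hd : Module.supportDim A M ≤ d) (e : PrimeSpectrum A → ℝ)
    (he : ∀ p : PrimeSpectrum A, ringKrullDim (A ⧸ p.asIdeal) = d → Tendsto (nhs I d (A ⧸ p.asIdeal)) atTop (𝓝 (e p))) :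
    Tendsto (nhs I d M) atTop (𝓝 (∑ᶠ (p : PrimeSpectrum A) (_ : ringKrullDim (A ⧸ p.asIdeal) = d),
      ((locLen p M).toNat : ℝ) * e p)) := by
  suffices H : ∀ (N : Type u) [AddCommGroup N] [Module A N] [Module.Finite A N], Module.supportDim A N ≤ d →
      ∃ S : Finset (PrimeSpectrum A), (∀ p, ringKrullDim (A ⧸ p.asIdeal) = d → locLen p N ≠ ⊤) ∧
        (∀ p, ringKrullDim (A ⧸ p.asIdeal) = d → p ∉ S → locLen p N = 0) ∧
        (∀ p ∈ S, ringKrullDim (A ⧸ p.asIdeal) = d) ∧
        Tendsto (nhs I d N) atTop (𝓝 (∑ p ∈ S, ((locLen p N).toNat : ℝ) * e p)) by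
    obtain ⟨S, -, h2, h3, h4⟩ := H M hd
    rwa [finsum_cond_eq_sum_of_cond_iff (t := S) _ fun {p} hp => ?_]
    refine ⟨fun hpd => by_contra fun hpS => hp ?_, h3 p⟩
    rw [h2 p hpd hpS]
    simp
  classical
  intro N _ _ i
  induction i using IsNoetherianRing.induction_on_isQuotientEquivQuotientPrime A with
  | subsingleton N =>
    intro _
    refine ⟨∅, fun p _ => ?_, fun p _ _ => ?_, by simp, ?_⟩
    · rw [locLen_eq_zero (Module.notMem_support_iff.2 inferInstance)]
      exact ENat.zero_ne_top
    · exact locLen_eq_zero (Module.notMem_support_iff.2 inferInstance)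
    · have h0 : nhs I d N = fun _ => 0 := funext fun t => by simp [nhs, Module.length_eq_zero]
      rw [h0, Finset.sum_empty]
      exact tendsto_const_nhds
  | quotient N q φ =>
    intro hN
    have hdim : Module.supportDim A N = ringKrullDim (A ⧸ q.asIdeal) := by
      rw [Module.supportDim_eq_of_equiv φ, Module.supportDim_quotient_eq_ringKrullDim]
    have hnhs : nhs I d N = nhs I d (A ⧸ q.asIdeal) := funext fun t => by
      have hmap : (I ^ t • (⊤ : Submodule A N)).map φ.toLinearMap = I ^ t • ⊤ := by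
        rw [Submodule.map_smul'', Submodule.map_top, LinearEquiv.range]
      simp only [nhs]
      rw [(Submodule.Quotient.equiv _ _ φ hmap).length_eq]
    have hloc : ∀ p, locLen p N = locLen p (A ⧸ q.asIdeal) := fun p =>
      AssPts11.length_localized_eq φ p.asIdeal
    have hzero : ∀ p, ringKrullDim (A ⧸ p.asIdeal) = d → p ≠ q → locLen p N = 0 := by
      intro p hp hpq
      rw [hloc]
      refine locLen_eq_zero fun hsupp => ?_
      rw [Module.support_eq_zeroLocus, Ideal.annihilator_quotient, PrimeSpectrum.mem_zeroLocus] at hsupp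
      have h1 := ringKrullDim_quotient_succ_le (lt_of_le_of_ne ((PrimeSpectrum.asIdeal_le_asIdeal _ _).1 hsupp) (Ne.symm hpq))
      rw [hp] at h1
      have h2 : ((d : ℕ) : WithBot ℕ∞) + 1 ≤ (d : ℕ) := h1.trans (hdim.symm.le.trans hN)
      exact absurd (show (d + 1 : ℕ) ≤ d by exact_mod_cast h2) (by omega)
    by_cases hq : ringKrullDim (A ⧸ q.asIdeal) = d
    · refine ⟨{q}, fun p hp => ?_, fun p hp hpS => hzero p hp (by simpa using hpS), by simpa using hq, ?_⟩
      · by_cases h : p = q
        · rw [h, hloc, locLen_quotient_self]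
          exact ENat.one_ne_top
        · rw [hzero p hp h]
          exact ENat.zero_ne_top
      · rw [Finset.sum_singleton, hloc, locLen_quotient_self, hnhs]
        simpa using he q hq
    · refine ⟨∅, fun p hp => ?_, fun p hp _ => hzero p hp fun h => hq (h ▸ hp), by simp, ?_⟩
      · rw [hzero p hp fun h => hq (h ▸ hp)]
        exact ENat.zero_ne_top
      · rw [Finset.sum_empty]
        have hlt : Module.supportDim A N < d := lt_of_le_of_ne hN (hdim ▸ hq)
        rcases d with _ | d
        · exfalso
          rw [hdim] at hlt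
          exact not_lt.2 ringKrullDim_nonneg_of_nontrivial hlt
        · refine tendsto_nhs_zero hI N ?_
          revert hlt
          generalize Module.supportDim A N = z
          induction z with
          | bot => simp
          | coe z =>
            intro hz
            have : z < ((d + 1 : ℕ) : ℕ∞) := by exact_mod_cast hz
            rw [Nat.cast_add, Nat.cast_one] at this
            exact_mod_cast ENat.lt_add_one_iff (ENat.coe_ne_top d) |>.1 this
  | exact N₁ N₂ N₃ f g hf hg hfg h₁ h₃ =>
    intro hN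
    obtain ⟨S₁, a₁, b₁, c₁, t₁⟩ := h₁ ((Module.supportDim_le_of_injective f hf).trans hN)
    obtain ⟨S₃, a₃, b₃, c₃, t₃⟩ := h₃ ((Module.supportDim_le_of_surjective g hg).trans hN)
    refine ⟨S₁ ∪ S₃, fun p hp => ?_, fun p hp hpS => ?_, fun p hp => (Finset.mem_union.1 hp).elim (c₁ p) (c₃ p), ?_⟩
    · rw [locLen_add p f g hf hg hfg]
      exact WithTop.add_ne_top.2 ⟨a₁ p hp, a₃ p hp⟩
    · rw [Finset.mem_union, not_or] at hpS
      rw [locLen_add p f g hf hg hfg, b₁ p hp hpS.1, b₃ p hp hpS.2, add_zero]
    · convert tendsto_nhs_add hI f g hf hg (LinearMap.exact_iff.1 hfg).symm d t₁ t₃ using 2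
      have hall : ∀ p ∈ S₁ ∪ S₃, ringKrullDim (A ⧸ p.asIdeal) = d := fun p hp =>
        (Finset.mem_union.1 hp).elim (c₁ p) (c₃ p)
      rw [Finset.sum_subset (f := fun p => ((locLen p N₁).toNat : ℝ) * e p) (Finset.subset_union_left (s₁ := S₁) (s₂ := S₃))
          fun p hp hp' => by simp [b₁ p (hall p hp) hp'],
        Finset.sum_subset (f := fun p => ((locLen p N₃).toNat : ℝ) * e p) (Finset.subset_union_right (s₁ := S₁) (s₂ := S₃))
          fun p hp hp' => by simp [b₃ p (hall p hp) hp'],
        ← Finset.sum_add_distrib]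
      refine Finset.sum_congr rfl fun p hp => ?_
      rw [locLen_add p f g hf hg hfg, ENat.toNat_add (a₁ p (hall p hp)) (a₃ p (hall p hp))]
      push_cast
      ring

end IntMult26
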