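/-
Tor vanishes above the projective dimension.
-/
import Groth.Agent.Lib.FlatSyz.TorDim
import Groth.Agent.Lib.RegLoc.PD

set_option autoImplicit false

universe u

open CategoryTheory CategoryTheory.Limits TensorProduct Groth.Agent

namespace IntMult26

variable {A : Type u} [CommRing A] [IsNoetherianRing A]

theorem isZero_tor_of_pd : ∀ (d : ℕ) (M : Type u) [AddCommGroup M] [Module A M] [Module.Finite A M],
    RegLoc.PD A M d → ∀ (i : ℕ), d < i → ∀ N : ModuleCat.{u} A,
      IsZero (((Tor (ModuleCat.{u} A) i).obj (ModuleCat.of A M)).obj N)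
  | 0, M, _, _, _, h, i, hi, N => by
    haveI := RegLoc.pd_zero_iff.1 h
    haveI : Module.FinitePresentation A M := Module.finitePresentation_of_finite A M
    exact (FlatSyz.hasProjectiveDimensionLE_iff_forall_tor (A := A) (B := A) 0 M).1 h i hi N
  | d + 1, M, _, _, _, h, i, hi, N => by
    obtain ⟨m, f, hf⟩ := Module.Finite.exists_fin' A M
    haveI : Module.Finite A (LinearMap.ker f) := Module.Finite.iff_fg.2 (IsNoetherian.noetherian _)
    obtain ⟨j, rfl⟩ : ∃ j, i = j + 2 := ⟨i - 2, by omega⟩
    rw [FlatSyz.isZero_tor_shift (LinearMap.ker f).subtype (LinearMap.ker f).injective_subtype f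
      (LinearMap.exact_subtype_ker_map f) hf j]
    exact isZero_tor_of_pd d _ ((RegLoc.pd_succ_iff f hf).1 h) (j + 1) (by omega) N

end IntMult26
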