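/-
Tor intersection multiplicity for Cohen–Macaulay rings is the length.
-/
import Groth.Prelude.Def_IntMult
import Groth.Prelude.Def_CAlg
import Groth.Agent.Lib.CI2.TorKoszul
import Groth.Agent.Lib.TorSymm3.Basic
import Groth.Agent.Lib.Depth.CM
import Groth.Agent.Lib.Slice.CMFlat
import Groth.Agent.Lib.HilbSam.Dim
import Mathlib.LinearAlgebra.TensorProduct.Quotient

set_option autoImplicit false

universe u

open CategoryTheory CategoryTheory.Limits MonoidalCategory TensorProduct IsLocalRing RingTheory.Sequence Groth.Agent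

namespace IntMult26

variable {A : Type u} [CommRing A]

theorem length_tor_zero (M N : Type u) [AddCommGroup M] [Module A M] [AddCommGroup N] [Module A N] :
    Module.length A (DRing.Tor A 0 M N) = Module.length A (M ⊗[A] N) :=
  (((tensoringLeft (ModuleCat.{u} A)).obj (ModuleCat.of A M)).leftDerivedZeroIsoSelf.app
    (ModuleCat.of A N)).toLinearEquiv.length_eq

theorem chi_quot_eq {J K : Ideal A}
    (h : ∀ i : ℕ, 1 ≤ i → IsZero (((Tor (ModuleCat.{u} A) i).obj (ModuleCat.of A (A ⧸ J))).obj (ModuleCat.of A (A ⧸ K)))) :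
    IntMult.chi A (A ⧸ J) (A ⧸ K) = ((Module.length A (A ⧸ (J ⊔ K))).toNat : ℤ) := by
  rw [IntMult.chi, finsum_eq_single _ 0 fun i hi => ?_]
  · have e : Module.length A ((A ⧸ J) ⧸ (K • ⊤ : Submodule A (A ⧸ J))) = Module.length A (A ⧸ (J ⊔ K)) := by
      have hle : J ≤ J ⊔ K := le_sup_left
      have hK : (K • ⊤ : Submodule A (A ⧸ J)) = Submodule.map (Submodule.mkQ J : A →ₗ[A] A ⧸ J) (J ⊔ K : Submodule A A) := by
        rw [Submodule.map_sup, Submodule.mkQ_map_self, bot_sup_eq]
        conv_rhs => rw [← mul_one K, Ideal.one_eq_top, ← smul_eq_mul]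
        rw [Submodule.map_smul'', Submodule.map_top, Submodule.range_mkQ]
      rw [hK]
      exact (Submodule.quotientQuotientEquivQuotient J (J ⊔ K) hle).length_eq
    rw [length_tor_zero, (TensorProduct.tensorQuotEquivQuotSMul (A ⧸ J) K).length_eq, e]
    simp
  · haveI : Subsingleton (DRing.Tor A i (A ⧸ J) (A ⧸ K)) :=
      ModuleCat.subsingleton_of_isZero (h i (Nat.one_le_iff_ne_zero.2 hi))
    simp [Module.length_eq_zero]

variable [IsLocalRing A] [IsNoetherianRing A]

theorem supportDim_le_length : ∀ (l : List A) (N : Type u) [AddCommGroup N] [Module A N] [Module.Finite A N],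
    (∀ x ∈ l, x ∈ maximalIdeal A) →
    (∀ p ∈ Module.support A N, (∀ x ∈ l, x ∈ p.asIdeal) → p.asIdeal = maximalIdeal A) →
    Module.supportDim A N ≤ l.length
  | [], N, _, _, _, _, h => by
    rw [List.length_nil, HilbSam.supportDim_le_iff]
    intro s hs
    by_contra hlen
    have hmem : ∀ i, (s i).asIdeal = maximalIdeal A := fun i =>
      h (s i) (by
        rw [Module.support_eq_zeroLocus, PrimeSpectrum.mem_zeroLocus]
        exact hs.trans (s.head_le i)) (by simp)
    have h01 : s 0 < s (Fin.last _) := s.strictMono (by rw [Fin.lt_def]; simp; omega)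
    exact h01.ne (PrimeSpectrum.ext ((hmem 0).trans (hmem _).symm))
  | f :: l, N, _, _, _, hm, h => by
    have h1 := Module.supportDim_le_supportDim_quotSMulTop_succ (R := A) (M := N) (hm f List.mem_cons_self)
    have h2 := supportDim_le_length l (QuotSMulTop f N) (fun x hx => hm x (List.mem_cons_of_mem f hx)) fun p hp hl => by
      rw [Module.support_quotSMulTop] at hp
      exact h p hp.1 (List.forall_mem_cons.2 ⟨by simpa using hp.2, hl⟩)
    refine h1.trans ?_
    rw [List.length_cons, Nat.cast_add, Nat.cast_one]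
    exact add_le_add h2 le_rfl

/-- In a Cohen–Macaulay module a sequence of parameters of the right length is regular. -/
theorem isWeaklyRegular_of_CM : ∀ (l : List A) (M : Type u) [AddCommGroup M] [Module A M] [Module.Finite A M],
    LocCoh.IsCohenMacaulayModule A M → (∀ x ∈ l, x ∈ maximalIdeal A) →
    ((l.length : ℕ) : WithBot ℕ∞) ≤ Module.supportDim A M →
    (∀ p ∈ Module.support A M, (∀ x ∈ l, x ∈ p.asIdeal) → p.asIdeal = maximalIdeal A) →
    IsWeaklyRegular M l
  | [], M, _, _, _, _, _, _, _ => IsWeaklyRegular.nil A M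
  | f :: l, M, _, _, _, hM, hm, hlen, h => by
    rw [List.length_cons, Nat.cast_add, Nat.cast_one] at hlen
    have hfm := hm f List.mem_cons_self
    have hl' : ∀ p ∈ Module.support A (QuotSMulTop f M), (∀ x ∈ l, x ∈ p.asIdeal) → p.asIdeal = maximalIdeal A :=
      fun p hp hl => by
        rw [Module.support_quotSMulTop] at hp
        exact h p hp.1 (List.forall_mem_cons.2 ⟨by simpa using hp.2, hl⟩)
    have hlm : ∀ x ∈ l, x ∈ maximalIdeal A := fun x hx => hm x (List.mem_cons_of_mem f hx)
    have hb := supportDim_le_length l (QuotSMulTop f M) hlm hl'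
    have hreg : IsSMulRegular M f := by
      rw [isSMulRegular_iff_right_eq_zero_of_smul]
      intro x hx
      by_contra hx0
      have hmem : f ∈ ⋃ p ∈ associatedPrimes A M, (p : Set A) := by
        rw [biUnion_associatedPrimes_eq_zero_divisors]
        exact ⟨x, hx0, hx⟩
      obtain ⟨p, hp, hfp⟩ := Set.mem_iUnion₂.1 hmem
      haveI := IsAssociatedPrime.isPrime hp
      have hps : (⟨p, inferInstance⟩ : PrimeSpectrum A) ∈ Module.support A (QuotSMulTop f M) := by
        rw [Module.support_quotSMulTop]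
        exact ⟨DepthLib.mem_support_of_mem_associatedPrimes hp, by simpa using hfp⟩
      have h1 := DepthLib.ringKrullDim_quotient_le_supportDim (R := A) (M := QuotSMulTop f M) hps
      rw [DepthLib.ringKrullDim_quotient_eq_of_mem_associatedPrimes hM hp] at h1
      have h2 : ((l.length : ℕ) : WithBot ℕ∞) + 1 ≤ (l.length : ℕ) := hlen.trans (h1.trans hb)
      exact absurd (show l.length + 1 ≤ l.length by exact_mod_cast h2) (by omega)
    rw [isWeaklyRegular_cons_iff]
    refine ⟨hreg, isWeaklyRegular_of_CM l _ ((DepthLib.isCohenMacaulayModule_quotSMulTop_iff hfm hreg).2 hM) hlm ?_ hl'⟩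
    have h3 := Module.supportDim_le_supportDim_quotSMulTop_succ (R := A) (M := M) hfm
    exact DepthLib.withBot_add_coe_cancel 1 (by exact_mod_cast hlen.trans h3)

/-- A Cohen–Macaulay quotient ring is a Cohen–Macaulay module. -/
theorem isCohenMacaulayModule_quotient (J : Ideal A) [IsLocalRing (A ⧸ J)]
    (h : LocCoh.IsCohenMacaulayLocalRing (A ⧸ J)) : LocCoh.IsCohenMacaulayModule A (A ⧸ J) := by
  have h1 := h.supportDim_eq_depth
  rw [Module.supportDim_self_eq_ringKrullDim] at h1
  unfold LocCoh.IsCohenMacaulayModule LocCoh.depth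
  rw [Module.supportDim_quotient_eq_ringKrullDim, h1, ← Slice.idealDepth_map_quotient J]
  rfl

/-- Multiplicity along a regular sequence meeting a Cohen–Macaulay quotient properly. -/
theorem chi_eq_length {J K : Ideal A} {c : ℕ} (g : Fin c → A) (hK : K = Ideal.span (Set.range g))
    (hreg : IsRegular A (List.ofFn g)) (hJ : LocCoh.IsCohenMacaulayModule A (A ⧸ J)) (hKm : K ≤ maximalIdeal A)
    (hc : ((c : ℕ) : WithBot ℕ∞) ≤ ringKrullDim (A ⧸ J))
    (hsupp : ∀ p : PrimeSpectrum A, J ≤ p.asIdeal → K ≤ p.asIdeal → p.asIdeal = maximalIdeal A) :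
    IntMult.chi A (A ⧸ J) (A ⧸ K) = ((Module.length A (A ⧸ (J ⊔ K))).toNat : ℤ) := by
  let l := List.ofFn g
  have hKl : K = Ideal.ofList l := by
    rw [hK, Ideal.ofList]
    congr 1
    ext x
    simp [l]
  have hmem : ∀ x ∈ l, x ∈ maximalIdeal A := fun x hx => hKm (hKl ▸ Ideal.subset_span hx)
  have hw : IsWeaklyRegular (A ⧸ J) l := by
    refine isWeaklyRegular_of_CM l _ hJ hmem ?_ fun p hp hpl => ?_
    · rw [Module.supportDim_quotient_eq_ringKrullDim]
      simpa [l] using hc
    · rw [Module.support_eq_zeroLocus, Ideal.annihilator_quotient, PrimeSpectrum.mem_zeroLocus] at hp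
      exact hsupp p hp (hKl ▸ Ideal.span_le.2 hpl)
  refine chi_quot_eq fun i hi => ?_
  obtain ⟨n, rfl⟩ : ∃ n, i = n + 1 := ⟨i - 1, by omega⟩
  rw [TorSymm3.isZero_tor_comm, hKl]
  exact (CI2.forall_isZero_tor_iff_ex (CI2.ex_of_isWeaklyRegular l A hreg.toIsWeaklyRegular) (A ⧸ J)).2
    (CI2.ex_of_isWeaklyRegular l _ hw) (n + 1) (Nat.le_add_left 1 n)

end IntMult26
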